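import Cfsg.Agent.S4066
import Cfsg.Agent.S1474
import Cfsg.Agent.S1476
import Cfsg.Agent.S0183
import Cfsg.Agent.Cores.Fitting
import Cfsg.Prelude.Def_OddOrderLocal
import Cfsg.Prelude.Def_LieExceptional

/-!
# Groups in which all element centralisers are TI sets: first properties

Such a group is a CN-group; if it is not solvable then it has no nontrivial solvable normal subgroup.
-/

set_option autoImplicit false
set_option linter.unusedSectionVars false
set_option linter.style.haveILetI false

namespace Cfsg.Agent.H65.TICent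

universe u

variable {G : Type u} [Group G] [Finite G]

/-- All centralisers of elements are TI sets. -/
def TI (G : Type u) [Group G] : Prop :=
  ∀ x : G, Cfsg.IsTISubset (Subgroup.centralizer ({x} : Set G) : Set G)

/-- The centraliser of `x`. -/
abbrev C (x : G) : Subgroup G := Subgroup.centralizer ({x} : Set G)

omit [Finite G] in
theorem mem_C {y x : G} : y ∈ C x ↔ Commute y x := Subgroup.mem_centralizer_singleton_iff

variable (hTI : TI G)

include hTI in
omit [Finite G] in
theorem norm_of {x d g : G} (hd : d ≠ 1) (hdx : d ∈ C x) (hgd : g * d * g⁻¹ ∈ C x) :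
    g ∈ Subgroup.normalizer (C x : Set G) := by
  by_contra hg
  exact hd (hTI x g hg d hdx hgd)

include hTI in
omit [Finite G] in
theorem norm_of_commute {x d g : G} (hd : d ≠ 1) (hdx : d ∈ C x) (hgd : Commute g d) :
    g ∈ Subgroup.normalizer (C x : Set G) :=
  norm_of hTI hd hdx (by rwa [hgd.eq, mul_inv_cancel_right])

include hTI in
/-- The group is a CN-group. -/
theorem isCN : Cfsg.IsCNGroup G := by
  intro d hd
  set M := C d with hM
  rw [← Cores.fittingSubgroup_eq_top_iff, Subgroup.eq_top_iff']
  intro z
  -- the centre of `C_M(z)` is an abelian normal subgroup of `M` containing `z`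
  set K : Subgroup ↥M := Subgroup.centralizer ({z} : Set ↥M) with hK
  have hKn : K.Normal := ⟨fun k hk m => by
    have hdz : d ∈ C (z : G) := mem_C.2 (mem_C.1 z.2).symm
    have hm : (m : G) ∈ Subgroup.normalizer (C (z : G) : Set G) :=
      norm_of_commute hTI hd hdz (mem_C.1 m.2)
    have hk' : (k : G) ∈ C (z : G) :=
      mem_C.2 (congrArg Subtype.val (Subgroup.mem_centralizer_singleton_iff.1 hk))
    exact Subgroup.mem_centralizer_singleton_iff.2
      (Subtype.ext (mem_C.1 ((Subgroup.mem_normalizer_iff.1 hm _).1 hk')).eq)⟩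
  let Z : Subgroup ↥M := (Subgroup.center ↥K).map K.subtype
  haveI hZn : Z.Normal := by
    haveI := hKn
    exact ConjAct.normal_of_characteristic_of_normal
  have hZc : IsMulCommutative ↥Z := Subgroup.map_isMulCommutative _ _
  have hzZ : z ∈ Z := by
    refine ⟨⟨z, Subgroup.mem_centralizer_singleton_iff.2 rfl⟩, ?_, rfl⟩
    exact Subgroup.mem_center_iff.2 fun k =>
      Subtype.ext (Subgroup.mem_centralizer_singleton_iff.1 k.2)
  haveI := hZc
  exact Cores.le_fittingSubgroup (N := Z) (by open scoped IsMulCommutative in exact CommGroup.isNilpotent) hzZ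

include hTI in
/-- The conclusion of the odd-order theorem for the subgroups of a CN-group. -/
theorem solvable_of_odd_subgroup {K : Subgroup G} (hK : Odd (Nat.card ↥K)) :
    Group.IsSolvable ↥K := by
  refine S0183.result hK fun g hg => ?_
  have h := isCN hTI (g : G) fun e => hg (Subtype.ext e)
  haveI := h
  let φ : ↥(Subgroup.centralizer ({g} : Set ↥K)) →* ↥(C (g : G)) :=
    { toFun := fun a => ⟨(a : ↥K), mem_C.2 (congrArg Subtype.val
        (Subgroup.mem_centralizer_singleton_iff.1 a.2))⟩
      map_one' := rfl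
      map_mul' := fun _ _ => rfl }
  haveI : Group.IsNilpotent ↥φ.range := inferInstance
  have hinj : Function.Injective φ := fun a b hab =>
    Subtype.ext (Subtype.ext (congrArg (fun c : ↥(C (g : G)) => (c : G)) hab))
  exact Group.nilpotent_of_mulEquiv (MonoidHom.ofInjective hinj).symm

include hTI in
/-- A normal `p`-subgroup forces solvability. -/
theorem solvable_of_normal_pgroup {p : ℕ} [Fact p.Prime] {V : Subgroup G} (hV : V.Normal)
    (hp : IsPGroup p ↥V) (hne : V ≠ ⊥) : Group.IsSolvable G := by
  obtain ⟨P, hP⟩ := hp.exists_le_sylow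
  haveI : Subsingleton (Sylow p G) := by
    refine ⟨fun Q R => ?_⟩
    by_contra hQR
    have hle : ∀ Q : Sylow p G, V ≤ (Q : Subgroup G) := fun Q => by
      obtain ⟨g, rfl⟩ := MulAction.exists_smul_eq G P Q
      intro v hv
      refine ⟨g⁻¹ * v * g, hP ?_, ?_⟩
      · simpa using hV.conj_mem v hv g⁻¹
      · show g * (g⁻¹ * v * g) * g⁻¹ = v
        group
    exact hne (le_bot_iff.1 ((le_inf (hle Q) (hle R)).trans (S4066.result hTI Q R hQR).le))
  by_cases hn : Group.IsNilpotent G
  · haveI := hn; infer_instance
  have hPn : (P : Subgroup G).Normal := Sylow.normal_of_subsingleton P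
  obtain ⟨-, -, -, hq⟩ := S1474.result (isCN hTI) hn p P
    (fun h => hne (le_bot_iff.1 (h ▸ hP))) hPn
  haveI : Group.IsNilpotent ↥(Cfsg.fittingHall G) := by
    have hle : Cfsg.fittingHall G ≤ Cfsg.fittingSubgroup G :=
      sSup_le fun N hN => le_sSup ⟨hN.1, hN.2.1⟩
    haveI := Cores.fittingSubgroup_isNilpotent (G := G)
    exact Group.nilpotent_of_mulEquiv (Subgroup.subgroupOfEquivOfLe hle)
  haveI := hq
  exact Group.isSolvable_of_ker_le_range (Cfsg.fittingHall G).subtype
    (QuotientGroup.mk' (Cfsg.fittingHall G)) (by rw [QuotientGroup.ker_mk', Subgroup.range_subtype])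

include hTI in
/-- A group with a nontrivial solvable normal subgroup is solvable. -/
theorem normal_eq_bot (hns : ¬ Group.IsSolvable G) {R : Subgroup G} (hR : R.Normal)
    (hs : Group.IsSolvable ↥R) : R = ⊥ := by
  by_contra hne
  haveI := hs
  haveI : Nontrivial ↥R := (Subgroup.nontrivial_iff_ne_bot R).2 hne
  obtain ⟨A, hAc, hAne, hAcomm⟩ := Cores.exists_abelian_normal_ne_bot (G := ↥R)
  haveI := hAc
  haveI := hR
  set A' : Subgroup G := A.map R.subtype with hA'
  have hA'n : A'.Normal := ConjAct.normal_of_characteristic_of_normal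
  have hA'ne : A' ≠ ⊥ := fun h => hAne ((Subgroup.map_eq_bot_iff_of_injective A R.subtype_injective).1 h)
  haveI : Nontrivial ↥A' := (Subgroup.nontrivial_iff_ne_bot A').2 hA'ne
  haveI := hAcomm
  haveI : IsMulCommutative ↥A' := Subgroup.map_isMulCommutative _ _
  obtain ⟨p, hp, hdvd⟩ := Nat.exists_prime_and_dvd (show Nat.card ↥A' ≠ 1 from
    (Finite.one_lt_card_iff_nontrivial.2 inferInstance).ne')
  haveI := Fact.mk hp
  obtain ⟨Q⟩ : Nonempty (Sylow p ↥A') := inferInstance
  haveI : (Q : Subgroup ↥A').Normal := Subgroup.normal_of_isMulCommutative _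
  haveI := Q.characteristic_of_normal inferInstance
  haveI := hA'n
  exact hns (solvable_of_normal_pgroup hTI
    (V := (Q : Subgroup ↥A').map A'.subtype) ConjAct.normal_of_characteristic_of_normal
    (Q.2.map _) fun h => Q.ne_bot_of_dvd_card hdvd
      ((Subgroup.map_eq_bot_iff_of_injective _ A'.subtype_injective).1 h))

include hTI in
theorem even_card (hns : ¬ Group.IsSolvable G) : Even (Nat.card G) := by
  by_contra h
  exact hns (S0183.result (Nat.not_even_iff_odd.1 h) (isCN hTI))

end Cfsg.Agent.H65.TICent
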