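import Cfsg.Agent.H65.TICent.Zass
import Cfsg.Agent.Frobenius.Basic
import Cfsg.Agent.PGroups.Basic

/-!
# The subgroups of `M` invariant under `N`

Their orders are `1` modulo `m`; this makes them powers of `m + 1` when `M` is a 2-group.
-/

set_option autoImplicit false
set_option linter.unusedSectionVars false
set_option linter.style.haveILetI false

namespace Cfsg.Agent.H65.TICent.Frame

open MulAction

universe u

variable {G : Type u} [Group G] [Finite G] (F : Frame G)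

/-- A subgroup of `M` invariant under `N`. -/
def Inv (K : Subgroup G) : Prop :=
  K ≤ F.M ∧ ∀ n ∈ F.N, ∀ x ∈ K, n * x * n⁻¹ ∈ K

omit [Finite G] in
theorem inv_M : F.Inv F.M := ⟨le_rfl, fun _ hn _ hx => F.conj_mem hn hx⟩

omit [Finite G] in
theorem inv_closure {s : Set G} (hs : s ⊆ F.M) (h : ∀ n ∈ F.N, ∀ x ∈ s, n * x * n⁻¹ ∈ s) :
    F.Inv (Subgroup.closure s) := by
  refine ⟨(Subgroup.closure_le _).2 hs, fun n hn x hx => ?_⟩
  have hle : (Subgroup.closure s).map (MulAut.conj n).toMonoidHom ≤ Subgroup.closure s := by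
    rw [MonoidHom.map_closure]
    refine Subgroup.closure_mono ?_
    rintro _ ⟨y, hy, rfl⟩
    exact h n hn y hy
  exact hle ⟨x, hx, rfl⟩

omit [Finite G] in
theorem inv_inf {K L : Subgroup G} (hK : F.Inv K) (hL : F.Inv L) : F.Inv (K ⊓ L) :=
  ⟨inf_le_left.trans hK.1, fun n hn x hx => ⟨hK.2 n hn x hx.1, hL.2 n hn x hx.2⟩⟩

omit [Finite G] in
theorem inv_sup {K L : Subgroup G} (hK : F.Inv K) (hL : F.Inv L) : F.Inv (K ⊔ L) := by
  refine ⟨sup_le hK.1 hL.1, fun n hn x hx => ?_⟩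
  have hle : (K ⊔ L).map (MulAut.conj n).toMonoidHom ≤ K ⊔ L := by
    rw [Subgroup.map_sup]
    refine sup_le_sup ?_ ?_
    · rintro _ ⟨y, hy, rfl⟩; exact hK.2 n hn y hy
    · rintro _ ⟨y, hy, rfl⟩; exact hL.2 n hn y hy
  exact hle ⟨x, hx, rfl⟩

omit [Finite G] in
theorem inv_centralizer {K : Subgroup G} (hK : F.Inv K) :
    F.Inv (F.M ⊓ Subgroup.centralizer (K : Set G)) := by
  refine ⟨inf_le_left, fun n hn x hx => ⟨F.conj_mem hn hx.1, ?_⟩⟩
  show n * x * n⁻¹ ∈ Subgroup.centralizer (K : Set G)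
  rw [Subgroup.mem_centralizer_iff]
  intro k hk
  have hk' : n⁻¹ * k * n ∈ K := by
    have := hK.2 n⁻¹ (F.N.inv_mem hn) k hk
    rwa [inv_inv] at this
  have h := Subgroup.mem_centralizer_iff.1 hx.2 _ hk'
  calc k * (n * x * n⁻¹) = n * ((n⁻¹ * k * n) * x) * n⁻¹ := by group
    _ = n * (x * (n⁻¹ * k * n)) * n⁻¹ := by rw [h]
    _ = _ := by group

/-- The centraliser in `M` of an element of `M` is invariant: this is where the hypothesis enters. -/
theorem inv_C {s : G} (hs : s ∈ F.M) : F.Inv (F.M ⊓ C s) := by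
  refine ⟨inf_le_left, fun n hn x hx => ⟨F.conj_mem hn hx.1, ?_⟩⟩
  have hu : orderOf (n * F.z * n⁻¹) = 2 := (H65.orderOf_conj' n F.z).trans F.hz
  have h1 : n ∈ Subgroup.normalizer (C s : Set G) :=
    norm_of F.ti (H65.ne_one_of_orderOf F.hz) (mem_C.2 (mem_C.1 hs).symm)
      (mem_C.2 ((F.mem_M_iff_commute hu (F.conj_mem hn F.z_mem)).1 hs).symm)
  exact (Subgroup.mem_normalizer_iff.1 h1 x).1 hx.2

/-- The order of an invariant subgroup is `1` modulo `m`. -/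
theorem inv_dvd {K : Subgroup G} (hK : F.Inv K) : F.m ∣ Nat.card ↥K - 1 := by
  classical
  obtain ⟨P, hP⟩ := F.exists_ne_base
  let act : MulAction ↥(F.two P) {x : ↥K // x ≠ 1} :=
    { smul := fun d x => ⟨⟨(d : G) * (x.1 : G) * (d : G)⁻¹,
          hK.2 _ (F.mem_two.1 d.2).1 _ x.1.2⟩, fun h => x.2 (Subtype.ext
            (conj_eq_one_iff.1 (congrArg Subtype.val h :)))⟩
      one_smul := fun x => Subtype.ext (Subtype.ext (by
        show (1 : G) * (x.1 : G) * 1⁻¹ = (x.1 : G)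
        group))
      mul_smul := fun d e x => Subtype.ext (Subtype.ext (by
        show ((d : G) * e) * (x.1 : G) * ((d : G) * e)⁻¹ =
          (d : G) * ((e : G) * (x.1 : G) * (e : G)⁻¹) * (d : G)⁻¹
        group)) }
  have hfree : ∀ (d : ↥(F.two P)) (x : {x : ↥K // x ≠ 1}), d • x = x → d = 1 := by
    intro d x hdx
    have h : (d : G) * (x.1 : G) * (d : G)⁻¹ = (x.1 : G) :=
      congrArg (fun y : {x : ↥K // x ≠ 1} => (y.1 : G)) hdx
    have hxM : (x.1 : G) ∈ F.M := hK.1 x.1.2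
    have hne : (x.1 : G) • P ≠ P := fun e => x.2 (Subtype.ext (F.eq_one_of_fix hP hxM e))
    have hb : (x.1 : G) • P ≠ F.base := fun e => hP (by
      rw [← inv_smul_smul (x.1 : G) P, e, F.smul_base]
      exact F.N.inv_mem (F.M_le_N hxM))
    refine Subtype.ext (F.eq_one_of_three hP hb hne.symm d.2 ?_)
    rw [← mul_smul, mul_inv_eq_iff_eq_mul.1 h, mul_smul, (F.mem_two.1 d.2).2]
  have hd := Frobenius.dvd_card_of_free ↥(F.two P) hfree
  rw [F.card_two hP] at hd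
  haveI := Fintype.ofFinite ↥K
  have hc : Nat.card {x : ↥K // x ≠ 1} = Nat.card ↥K - 1 := by
    rw [Nat.card_eq_fintype_card, Nat.card_eq_fintype_card, Fintype.card_subtype_compl,
      Fintype.card_subtype_eq]
  rwa [hc] at hd

/-- For a 2-group `M` the orders of invariant subgroups are powers of `m + 1`. -/
theorem inv_card (hp : IsPGroup 2 ↥F.M) {n : ℕ} (hn : F.m + 1 = 2 ^ n) {K : Subgroup G}
    (hK : F.Inv K) : ∃ j, Nat.card ↥K = (2 ^ n) ^ j := by
  haveI : Fact (Nat.Prime 2) := ⟨Nat.prime_two⟩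
  obtain ⟨k, hk⟩ := IsPGroup.iff_card.1 (hp.to_le hK.1)
  have h := F.inv_dvd hK
  rw [hk, show F.m = 2 ^ n - 1 by omega] at h
  have h1 : 2 ^ Nat.gcd n k - 1 = 2 ^ n - 1 := by
    rw [← Nat.pow_sub_one_gcd_pow_sub_one]
    exact Nat.gcd_eq_left h
  have h2 : Nat.gcd n k = n := by
    have a1 : 1 ≤ 2 ^ n := Nat.one_le_two_pow
    have a2 : 1 ≤ 2 ^ Nat.gcd n k := Nat.one_le_two_pow
    exact Nat.pow_right_injective le_rfl (show 2 ^ Nat.gcd n k = 2 ^ n by omega)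
  obtain ⟨j, rfl⟩ : n ∣ k := h2 ▸ Nat.gcd_dvd_right n k
  exact ⟨j, by rw [hk, pow_mul]⟩

/-- The subgroup generated by the squares of `M`. -/
def sq : Subgroup G := Subgroup.closure {y | ∃ x ∈ F.M, x * x = y}

omit [Finite G] in
theorem sq_mem {x : G} (hx : x ∈ F.M) : x * x ∈ F.sq := Subgroup.subset_closure ⟨x, hx, rfl⟩

omit [Finite G] in
theorem inv_sq : F.Inv F.sq := by
  refine F.inv_closure ?_ ?_
  · rintro _ ⟨x, hx, rfl⟩; exact mul_mem hx hx
  · rintro n hn _ ⟨x, hx, rfl⟩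
    exact ⟨n * x * n⁻¹, F.conj_mem hn hx, by group⟩

omit [Finite G] in
theorem commutator_mem_sq {a b : G} (ha : a ∈ F.M) (hb : b ∈ F.M) :
    a * b * a⁻¹ * b⁻¹ ∈ F.sq := by
  rw [show a * b * a⁻¹ * b⁻¹ = (a * b * (a * b)) * ((b⁻¹ * a⁻¹ * b) * (b⁻¹ * a⁻¹ * b)) * (b⁻¹ * b⁻¹)
    by group]
  exact mul_mem (mul_mem (F.sq_mem (mul_mem ha hb))
    (F.sq_mem (mul_mem (mul_mem (inv_mem hb) (inv_mem ha)) hb))) (F.sq_mem (inv_mem hb))

/-- The squares do not supplement a proper subgroup of a 2-group `M`. -/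
theorem eq_of_sup_sq (hp : IsPGroup 2 ↥F.M) {L : Subgroup G} (hL : L ≤ F.M)
    (h : L ⊔ F.sq = F.M) : L = F.M := by
  haveI : Fact (Nat.Prime 2) := ⟨Nat.prime_two⟩
  have hsq : F.sq.subgroupOf F.M ≤ frattini ↥F.M := by
    intro x hx
    have hle : F.sq ≤ (frattini ↥F.M).map F.M.subtype := by
      refine (Subgroup.closure_le _).2 ?_
      rintro _ ⟨y, hy, rfl⟩
      refine ⟨(⟨y, hy⟩ : ↥F.M) ^ 2, PGroups.pow_mem_frattini hp _, ?_⟩
      rw [pow_two]; rfl
    obtain ⟨y, hy, hyx⟩ := hle (Subgroup.mem_subgroupOf.1 hx)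
    rwa [← Subtype.ext (show (y : G) = x from hyx)]
  have h1 : L.subgroupOf F.M ⊔ F.sq.subgroupOf F.M = ⊤ := by
    rw [← Subgroup.subgroupOf_sup hL F.inv_sq.1, h, Subgroup.subgroupOf_self]
  have h2 : L.subgroupOf F.M = ⊤ :=
    frattini_nongenerating (top_le_iff.1 (h1.symm.le.trans (sup_le_sup_left hsq _)))
  exact le_antisymm hL (Subgroup.subgroupOf_eq_top.1 h2)

end Cfsg.Agent.H65.TICent.Frame
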