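import Cfsg.Agent.H65.TICent.Invariant

/-!
# A nonabelian 2-group kernel of small Frattini index is of order `q³` and class two

`q = m + 1`; the involutions of `M` with 1 form a subgroup `W` of order `q` containing the squares.
-/

set_option autoImplicit false
set_option linter.unusedSectionVars false
set_option linter.style.haveILetI false

namespace Cfsg.Agent.H65.TICent.Frame

universe u

variable {G : Type u} [Group G] [Finite G] (F : Frame G)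

/-- The involutions of `M` and 1. -/
def W : Subgroup G where
  carrier := {x | x ∈ F.M ∧ x * x = 1}
  one_mem' := ⟨one_mem _, one_mul 1⟩
  mul_mem' := by
    rintro a b ⟨ha, ha2⟩ ⟨hb, hb2⟩
    refine ⟨mul_mem ha hb, ?_⟩
    by_cases hb1 : b = 1
    · rw [hb1, mul_one]; exact ha2
    · have hc := (F.mem_M_iff_commute (H26.orderOf_two_of_mul_self hb2 hb1) hb).1 ha
      rw [hc.symm.mul_mul_mul_comm, ha2, hb2, one_mul]
  inv_mem' := by
    rintro a ⟨ha, ha2⟩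
    exact ⟨inv_mem ha, by rw [← mul_inv_rev, ha2, inv_one]⟩

theorem mem_W {x : G} : x ∈ F.W ↔ x ∈ F.M ∧ x * x = 1 := Iff.rfl

theorem inv_W : F.Inv F.W :=
  ⟨fun _ hx => (F.mem_W.1 hx).1, fun n hn x hx => F.mem_W.2 ⟨F.conj_mem hn (F.mem_W.1 hx).1, by
    rw [show n * x * n⁻¹ * (n * x * n⁻¹) = n * (x * x) * n⁻¹ by group, (F.mem_W.1 hx).2]; group⟩⟩

theorem commute_W {w g : G} (hw : w ∈ F.W) (hg : g ∈ F.M) : Commute g w := by
  by_cases hw1 : w = 1
  · rw [hw1]; exact Commute.one_right g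
  · exact (F.mem_M_iff_commute (H26.orderOf_two_of_mul_self (F.mem_W.1 hw).2 hw1) (F.mem_W.1 hw).1).1 hg

theorem card_W : Nat.card ↥F.W = F.m + 1 := by
  rw [← F.card_invol, ← Finite.card_option]
  let f : Option {w : G // orderOf w = 2 ∧ w ∈ F.M} → ↥F.W := fun o =>
    o.elim 1 fun w => ⟨w.1, F.mem_W.2 ⟨w.2.2, H65.mul_self_eq_one w.2.1⟩⟩
  have hne : ∀ v : {w : G // orderOf w = 2 ∧ w ∈ F.M}, f (some v) ≠ 1 := fun v h =>
    H65.ne_one_of_orderOf v.2.1 (congrArg Subtype.val h)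
  refine (Nat.card_eq_of_bijective f ⟨?_, ?_⟩).symm
  · rintro (_ | v) (_ | w) h
    · rfl
    · exact absurd h.symm (hne w)
    · exact absurd h (hne v)
    · have h' : v.1 = w.1 := congrArg (fun x : ↥F.W => (x : G)) h
      exact congrArg some (Subtype.ext h')
  · rintro ⟨x, hx⟩
    by_cases h1 : x = 1
    · exact ⟨none, Subtype.ext h1.symm⟩
    · exact ⟨some ⟨x, H26.orderOf_two_of_mul_self (F.mem_W.1 hx).2 h1, (F.mem_W.1 hx).1⟩, rfl⟩

/-- A nontrivial invariant subgroup contains every involution of `M`. -/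
theorem W_le (hp : IsPGroup 2 ↥F.M) {K : Subgroup G} (hK : F.Inv K) (hne : K ≠ ⊥) : F.W ≤ K := by
  haveI : Fact (Nat.Prime 2) := ⟨Nat.prime_two⟩
  haveI : Nontrivial ↥K := (Subgroup.nontrivial_iff_ne_bot K).2 hne
  obtain ⟨k, hk0, hk⟩ := IsPGroup.nontrivial_iff_card (hp.to_le hK.1) |>.1 inferInstance
  obtain ⟨⟨u, hu⟩, hu2⟩ := exists_prime_orderOf_dvd_card' (G := ↥K) 2
    (by rw [hk]; exact dvd_pow_self 2 (by omega))
  rw [← Subgroup.orderOf_coe] at hu2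
  obtain ⟨g, hg, hgu⟩ := F.exists_conj_N hu2 (hK.1 hu)
  intro w hw
  by_cases hw1 : w = 1
  · rw [hw1]; exact one_mem K
  obtain ⟨h, hh, hhw⟩ := F.exists_conj_N (H26.orderOf_two_of_mul_self (F.mem_W.1 hw).2 hw1)
    (F.mem_W.1 hw).1
  have := hK.2 _ (F.N.mul_mem hh (F.N.inv_mem hg)) u hu
  rw [show u = g * F.z * g⁻¹ from hgu.symm] at this
  rwa [show h * g⁻¹ * (g * F.z * g⁻¹) * (h * g⁻¹)⁻¹ = h * F.z * h⁻¹ by group, hhw] at this

/-- The centre of `M`. -/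
def Z : Subgroup G := F.M ⊓ Subgroup.centralizer (F.M : Set G)

theorem mem_Z {x : G} : x ∈ F.Z ↔ x ∈ F.M ∧ ∀ y ∈ F.M, Commute y x :=
  ⟨fun h => ⟨h.1, fun y hy => Subgroup.mem_centralizer_iff.1 h.2 y hy⟩,
    fun h => ⟨h.1, Subgroup.mem_centralizer_iff.2 fun y hy => (h.2 y hy).eq⟩⟩

theorem inv_Z : F.Inv F.Z := F.inv_centralizer F.inv_M

theorem W_le_Z : F.W ≤ F.Z := fun _ hw =>
  F.mem_Z.2 ⟨(F.mem_W.1 hw).1, fun _ hy => F.commute_W hw hy⟩

/-- Outside a proper subgroup of a nonabelian `M` there is a noncentral element. -/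
theorem exists_noncentral (hna : ¬ ∀ a ∈ F.M, ∀ b ∈ F.M, Commute a b) {L : Subgroup G}
    (hL : L < F.M) : ∃ r ∈ F.M, r ∉ L ∧ r ∉ F.Z := by
  by_contra hcon
  push Not at hcon
  obtain ⟨r, hr, hrL⟩ := SetLike.exists_of_lt hL
  have hrZ := hcon r hr hrL
  refine hna fun a ha b hb => ?_
  have hbZ : ∀ x ∈ F.M, x ∈ F.Z := by
    intro x hx
    by_cases hxL : x ∈ L
    · have h1 := hcon (r * x) (mul_mem hr hx) (fun h => hrL (by simpa using L.mul_mem h (L.inv_mem hxL)))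
      simpa using F.Z.mul_mem (F.Z.inv_mem hrZ) h1
    · exact hcon x hx hxL
  exact (F.mem_Z.1 (hbZ b hb)).2 a ha

/-- The centre of the centraliser of a noncentral element, and what is needed about it. -/
theorem exists_normal_abelian (hp : IsPGroup 2 ↥F.M) {s : G} (hs : s ∈ F.M) (hsZ : s ∉ F.Z) :
    ∃ A : Subgroup G, F.Inv A ∧ s ∈ A ∧ F.Z ≤ A ∧ (∀ a ∈ A, ∀ b ∈ A, Commute a b) ∧
      A ⊔ F.sq ≠ F.M := by
  set K := F.M ⊓ C s with hK
  refine ⟨K ⊓ Subgroup.centralizer (K : Set G), ?_, ?_, ?_, ?_, ?_⟩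
  · have h := F.inv_inf (F.inv_C hs) (F.inv_centralizer (F.inv_C hs))
    rwa [← inf_assoc, inf_eq_left.2 (inf_le_left : K ≤ F.M)] at h
  · exact ⟨⟨hs, mem_C.2 (Commute.refl s)⟩,
      Subgroup.mem_centralizer_iff.2 fun k hk => (mem_C.1 hk.2).eq⟩
  · intro x hx
    exact ⟨⟨(F.mem_Z.1 hx).1, mem_C.2 ((F.mem_Z.1 hx).2 s hs).symm⟩,
      Subgroup.mem_centralizer_iff.2 fun k hk => ((F.mem_Z.1 hx).2 k hk.1).eq⟩
  · exact fun a ha b hb => Subgroup.mem_centralizer_iff.1 hb.2 a ha.1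
  · intro h
    have h2 : K = F.M := F.eq_of_sup_sq hp inf_le_left
      (le_antisymm (sup_le inf_le_left F.inv_sq.1) (h.symm.le.trans (sup_le_sup_right inf_le_left _)))
    exact hsZ (F.mem_Z.2 ⟨hs, fun y hy => mem_C.1 (h2.symm ▸ hy : y ∈ K).2⟩)

/-- If `M` is generated by two abelian invariant subgroups meeting in the centre then the centre
has exponent two. -/
theorem Z_le_W (hp : IsPGroup 2 ↥F.M) {n : ℕ} (hn : F.m + 1 = 2 ^ n) {A B : Subgroup G}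
    (hA : F.Inv A) (hB : F.Inv B) (hAc : ∀ a ∈ A, ∀ b ∈ A, Commute a b)
    (hBc : ∀ a ∈ B, ∀ b ∈ B, Commute a b) (hZA : F.Z ≤ A) (hZB : F.Z ≤ B)
    (hAB : A ⊓ B ≤ F.Z) (hA' : ¬ A ≤ F.Z) (hB' : ¬ B ≤ F.Z) : F.Z ≤ F.W := by
  classical
  haveI : Fact (Nat.Prime 2) := ⟨Nat.prime_two⟩
  intro z₀ hz₀
  refine F.mem_W.2 ⟨(F.mem_Z.1 hz₀).1, ?_⟩
  by_contra hz2
  have hZc : ∀ a ∈ F.Z, ∀ b ∈ F.Z, Commute a b := fun a ha b hb =>
    (F.mem_Z.1 hb).2 a (F.mem_Z.1 ha).1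
  -- the squares in the centre
  let S : Subgroup G :=
    { carrier := {x | ∃ z ∈ F.Z, z * z = x}
      one_mem' := ⟨1, one_mem _, one_mul 1⟩
      mul_mem' := by
        rintro _ _ ⟨a, ha, rfl⟩ ⟨b, hb, rfl⟩
        exact ⟨a * b, mul_mem ha hb, (hZc b hb a ha).mul_mul_mul_comm a b⟩
      inv_mem' := by
        rintro _ ⟨a, ha, rfl⟩
        exact ⟨a⁻¹, inv_mem ha, (mul_inv_rev a a).symm⟩ }
  have hS : F.Inv S := ⟨by rintro _ ⟨a, ha, rfl⟩; exact mul_mem (F.mem_Z.1 ha).1 (F.mem_Z.1 ha).1, by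
    rintro g hg _ ⟨a, ha, rfl⟩
    exact ⟨g * a * g⁻¹, F.inv_Z.2 g hg a ha, by group⟩⟩
  have hSZ : S ≤ F.Z := by rintro _ ⟨a, ha, rfl⟩; exact mul_mem ha ha
  have hWS : F.W ≤ S := F.W_le hp hS fun h => hz2 (Subgroup.mem_bot.1 (h ▸ ⟨z₀, hz₀, rfl⟩))
  have hcardS : Nat.card ↥F.Z = Nat.card ↥F.W * Nat.card ↥S := by
    let φ : ↥F.Z →* ↥S := MonoidHom.mk' (fun a => ⟨(a : G) * a, a, a.2, rfl⟩) fun a b =>
      Subtype.ext (by
        show (a : G) * b * ((a : G) * b) = (a : G) * a * ((b : G) * b)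
        exact (hZc _ b.2 _ a.2).mul_mul_mul_comm _ _)
    have hs : Function.Surjective φ := by
      rintro ⟨_, a, ha, rfl⟩
      exact ⟨⟨a, ha⟩, rfl⟩
    have hk : φ.ker = F.W.subgroupOf F.Z := by
      ext a
      rw [MonoidHom.mem_ker, Subgroup.mem_subgroupOf, F.mem_W]
      exact ⟨fun h => ⟨(F.mem_Z.1 a.2).1, congrArg Subtype.val h⟩, fun h => Subtype.ext h.2⟩
    rw [Subgroup.card_eq_card_quotient_mul_card_subgroup φ.ker,
      Nat.card_congr (QuotientGroup.quotientKerEquivOfSurjective φ hs).toEquiv, hk,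
      Nat.card_congr (Subgroup.subgroupOfEquivOfLe F.W_le_Z).toEquiv, mul_comm]
  -- in a subgroup not inside the centre some element outside has central square
  have hexists : ∀ D : Subgroup G, F.Inv D → ¬ D ≤ F.Z →
      ∃ d ∈ D, d ∉ F.Z ∧ d * d ∈ F.Z := by
    intro D hD hD'
    obtain ⟨d₀, hd₀, hd₀Z⟩ := SetLike.not_le_iff_exists.1 hD'
    obtain ⟨k, hk⟩ := IsPGroup.iff_orderOf.1 hp ⟨d₀, hD.1 hd₀⟩
    rw [Subgroup.orderOf_mk] at hk
    have hex : ∃ i, d₀ ^ 2 ^ i ∈ F.Z := ⟨k, by rw [← hk, pow_orderOf_eq_one]; exact one_mem _⟩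
    obtain ⟨i, hi⟩ : ∃ i, Nat.find hex = i + 1 := by
      refine ⟨Nat.find hex - 1, ?_⟩
      have : Nat.find hex ≠ 0 := fun h => hd₀Z (by
        have := Nat.find_spec hex
        rwa [h, pow_zero, pow_one] at this)
      omega
    refine ⟨d₀ ^ 2 ^ i, pow_mem hd₀ _, Nat.find_min hex (by omega), ?_⟩
    have := Nat.find_spec hex
    rwa [hi, pow_succ, pow_mul, pow_two] at this
  obtain ⟨a, haA, haZ, ha2⟩ := hexists A hA hA'
  obtain ⟨b, hbB, hbZ, hb2⟩ := hexists B hB hB'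
  -- every central element is the square of an element of `B`
  let T : Subgroup G :=
    { carrier := {x | x ∈ F.Z ∧ ∃ y ∈ B, y * y = x}
      one_mem' := ⟨one_mem _, 1, one_mem _, one_mul 1⟩
      mul_mem' := by
        rintro _ _ ⟨h1, x, hx, rfl⟩ ⟨h2, y, hy, rfl⟩
        exact ⟨mul_mem h1 h2, x * y, mul_mem hx hy, (hBc y hy x hx).mul_mul_mul_comm x y⟩
      inv_mem' := by
        rintro _ ⟨h1, x, hx, rfl⟩
        exact ⟨inv_mem h1, x⁻¹, inv_mem hx, (mul_inv_rev x x).symm⟩ }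
  have hT : F.Inv T := ⟨fun x hx => (F.mem_Z.1 hx.1).1, by
    rintro g hg _ ⟨h1, y, hy, rfl⟩
    exact ⟨F.inv_Z.2 g hg _ h1, g * y * g⁻¹, hB.2 g hg y hy, by group⟩⟩
  have hST : S < T := by
    refine lt_of_le_of_ne ?_ ?_
    · rintro _ ⟨x, hx, rfl⟩; exact ⟨mul_mem hx hx, x, hZB hx, rfl⟩
    · intro h
      obtain ⟨z, hz, hzb⟩ : b * b ∈ S := h ▸ (⟨hb2, b, hbB, rfl⟩ : b * b ∈ T)
      apply hbZ
      have hu : b * z⁻¹ ∈ F.W := F.mem_W.2 ⟨mul_mem (hB.1 hbB) (inv_mem (F.mem_Z.1 hz).1), by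
        rw [(hBc _ (inv_mem (hZB hz)) b hbB).mul_mul_mul_comm, ← mul_inv_rev, hzb, mul_inv_cancel]⟩
      simpa using F.Z.mul_mem (F.W_le_Z hu) hz
  have hTZ : T = F.Z := by
    obtain ⟨jS, hjS⟩ := F.inv_card hp hn hS
    obtain ⟨jT, hjT⟩ := F.inv_card hp hn hT
    refine Subgroup.eq_of_le_of_card_ge (fun x hx => hx.1) ?_
    have hlt : Nat.card ↥S < Nat.card ↥T := by
      refine lt_of_le_of_ne (Subgroup.card_le_of_le hST.le) fun e => ?_
      exact hST.ne (Subgroup.eq_of_le_of_card_ge hST.le e.ge)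
    have hq : 2 ≤ 2 ^ n := by
      rw [← hn]; have := F.two_le_m; omega
    rw [hcardS, F.card_W, hn, hjS, hjT, ← pow_succ']
    rw [hjS, hjT] at hlt
    exact Nat.pow_le_pow_right (by omega) ((Nat.pow_lt_pow_iff_right (by omega)).1 hlt)
  obtain ⟨-, y, hy, hy2⟩ : (a * a)⁻¹ ∈ T := hTZ.symm ▸ F.Z.inv_mem ha2
  set c := (a * y)⁻¹ * (y * a) with hc
  have hcA : c ∈ A := by
    rw [show c = y⁻¹ * a⁻¹ * y * a by rw [hc]; group]
    refine mul_mem ?_ haA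
    have := hA.2 y⁻¹ (F.M_le_N (inv_mem (hB.1 hy))) a⁻¹ (inv_mem haA)
    rwa [inv_inv] at this
  have hcB : c ∈ B := by
    rw [show c = y⁻¹ * (a⁻¹ * y * a) by rw [hc]; group]
    refine mul_mem (inv_mem hy) ?_
    have := hB.2 a⁻¹ (F.M_le_N (inv_mem (hA.1 haA))) y hy
    rwa [inv_inv] at this
  have hcZ : c ∈ F.Z := hAB ⟨hcA, hcB⟩
  have hcc : ∀ g ∈ F.M, Commute g c := (F.mem_Z.1 hcZ).2
  have hya : y * a = a * y * c := by rw [hc, mul_inv_cancel_left]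
  have hc2 : c * c = 1 := by
    have h1 : y * (a * a) = a * a * y := ((F.mem_Z.1 ha2).2 y (hB.1 hy)).eq
    have h2 : y * (a * a) = a * a * y * (c * c) := by
      calc y * (a * a) = a * y * c * a := by rw [← mul_assoc, hya]
        _ = a * (y * a) * c := by rw [mul_assoc _ c a, ← (hcc a (hA.1 haA)).eq]; group
        _ = _ := by rw [hya]; group
    rw [h1] at h2
    exact mul_left_cancel (h2.symm.trans (mul_one _).symm)
  have huu : a * y * (a * y) = c := by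
    calc a * y * (a * y) = a * (y * a) * y := by group
      _ = a * a * y * (c * y) := by rw [hya]; group
      _ = a * a * y * (y * c) := by rw [(hcc y (hB.1 hy)).eq]
      _ = a * a * (y * y) * c := by group
      _ = c := by rw [hy2, mul_inv_cancel, one_mul]
  obtain ⟨z, hz, hzc⟩ := hWS (F.mem_W.2 ⟨(F.mem_Z.1 hcZ).1, hc2⟩)
  have huM : a * y ∈ F.M := mul_mem (hA.1 haA) (hB.1 hy)
  have hu : a * y * z⁻¹ ∈ F.W := F.mem_W.2 ⟨mul_mem huM (inv_mem (F.mem_Z.1 hz).1), by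
    rw [((F.mem_Z.1 (F.Z.inv_mem hz)).2 _ huM).symm.mul_mul_mul_comm, huu, ← mul_inv_rev, hzc,
      mul_inv_cancel]⟩
  have huZ : a * y ∈ F.Z := by simpa using F.Z.mul_mem (F.W_le_Z hu) hz
  have hyZ : y ∈ F.Z := hAB ⟨by simpa using A.mul_mem (A.inv_mem haA) (hZA huZ), hy⟩
  exact haZ (by simpa using F.Z.mul_mem huZ (F.Z.inv_mem hyZ))

/-- The structure of a nonabelian 2-group kernel. -/
theorem kernel_structure (hp : IsPGroup 2 ↥F.M) (hna : ¬ ∀ a ∈ F.M, ∀ b ∈ F.M, Commute a b)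
    {n : ℕ} (hn : F.m + 1 = 2 ^ n) (hbound : Nat.card ↥F.M < (2 ^ n) ^ 3 * Nat.card ↥F.sq) :
    F.sq ≤ F.W ∧ Nat.card ↥F.M = (2 ^ n) ^ 3 := by
  classical
  haveI : Fact (Nat.Prime 2) := ⟨Nat.prime_two⟩
  have hq : 2 ≤ 2 ^ n := by rw [← hn]; have := F.two_le_m; omega
  obtain ⟨a, ha⟩ := F.inv_card hp hn F.inv_M
  obtain ⟨j, hj⟩ := F.inv_card hp hn F.inv_sq
  have hjlt : a < 3 + j := by
    rw [ha, hj, ← pow_add] at hbound
    exact (Nat.pow_lt_pow_iff_right (by omega)).1 hbound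
  have hlt_of : ∀ {K L : Subgroup G}, K < L → ∀ {i l : ℕ}, Nat.card ↥K = (2 ^ n) ^ i →
      Nat.card ↥L = (2 ^ n) ^ l → i < l := by
    intro K L hKL i l hi hl
    refine (Nat.pow_lt_pow_iff_right (show 1 < 2 ^ n by omega)).1 ?_
    rw [← hi, ← hl]
    exact lt_of_le_of_ne (Subgroup.card_le_of_le hKL.le)
      fun e => hKL.ne (Subgroup.eq_of_le_of_card_ge hKL.le e.ge)
  have hsqlt : F.sq < F.M := by
    refine lt_of_le_of_ne F.inv_sq.1 fun h => ?_
    have h1 := F.eq_of_sup_sq hp (bot_le : ⊥ ≤ F.M) (by rw [bot_sup_eq, h])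
    exact hna fun x hx y _ => by
      rw [Subgroup.mem_bot.1 (h1.symm ▸ hx : x ∈ (⊥ : Subgroup G))]; exact Commute.one_left y
  obtain ⟨s, hs, hsK, hsZ⟩ := F.exists_noncentral hna hsqlt
  obtain ⟨A, hA, hsA, hZA, hAc, hAne⟩ := F.exists_normal_abelian hp hs hsZ
  have hL : F.Inv (A ⊔ F.sq) := F.inv_sup hA F.inv_sq
  obtain ⟨r, hr, hrL, hrZ⟩ := F.exists_noncentral hna (lt_of_le_of_ne hL.1 hAne)
  obtain ⟨B, hB, hrB, hZB, hBc, -⟩ := F.exists_normal_abelian hp hr hrZ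
  obtain ⟨l, hl⟩ := F.inv_card hp hn hL
  have h1 : j < l := hlt_of (lt_of_le_of_ne le_sup_right fun h =>
    hsK (((le_sup_left : A ≤ A ⊔ F.sq).trans h.symm.le) hsA)) hj hl
  have h2 : l < a := hlt_of (lt_of_le_of_ne hL.1 hAne) hl ha
  have hL' : F.Inv (A ⊔ F.sq ⊔ B) := F.inv_sup hL hB
  obtain ⟨l', hl'⟩ := F.inv_card hp hn hL'
  have h3 : l < l' := hlt_of (lt_of_le_of_ne le_sup_left fun h =>
    hrL (((le_sup_right : B ≤ A ⊔ F.sq ⊔ B).trans h.symm.le) hrB)) hl hl'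
  have hal : a ≤ l' := by omega
  have hfull : A ⊔ F.sq ⊔ B = F.M := Subgroup.eq_of_le_of_card_ge hL'.1 (by
    rw [ha, hl']; exact Nat.pow_le_pow_right (by omega) hal)
  have hAB : A ⊔ B = F.M := F.eq_of_sup_sq hp (sup_le hA.1 hB.1) (by rw [sup_right_comm, hfull])
  have hInf : A ⊓ B ≤ F.Z := fun x hx => F.mem_Z.2 ⟨hA.1 hx.1, fun y hy => by
    have hle : A ⊔ B ≤ Subgroup.centralizer ({x} : Set G) :=
      sup_le (fun g hg => mem_C.2 (hAc g hg x hx.1)) (fun g hg => mem_C.2 (hBc g hg x hx.2))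
    exact mem_C.1 (hle (hAB.symm ▸ hy))⟩
  have hZW := F.Z_le_W hp hn hA hB hAc hBc hZA hZB hInf (fun h => hsZ (h hsA))
    (fun h => hrZ (h hrB))
  -- every commutator is central
  have hnorm : B ≤ Subgroup.normalizer (A : Set G) := fun g hg =>
    Subgroup.mem_normalizer_iff.2 fun x => ⟨hA.2 g (F.M_le_N (hB.1 hg)) x, fun h => by
      have := hA.2 g⁻¹ (F.M_le_N (inv_mem (hB.1 hg))) _ h
      rwa [inv_inv, show g⁻¹ * (g * x * g⁻¹) * g = x by group] at this⟩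
  have hdec : ∀ x ∈ F.M, ∃ p ∈ A, ∃ r ∈ B, p * r = x := fun x hx => by
    have h : x ∈ (↑(A ⊔ B) : Set G) := hAB.symm ▸ hx
    rw [Subgroup.coe_mul_of_right_le_normalizer_left A B hnorm] at h
    exact Set.mem_mul.1 h
  have hcom : ∀ p ∈ A, ∀ r ∈ B, p * r * p⁻¹ * r⁻¹ ∈ F.Z := fun p hp' r hr' => hInf
    ⟨by
      rw [show p * r * p⁻¹ * r⁻¹ = p * (r * p⁻¹ * r⁻¹) by group]
      exact A.mul_mem hp' (hA.2 r (F.M_le_N (hB.1 hr')) _ (A.inv_mem hp')),
    B.mul_mem (hB.2 p (F.M_le_N (hA.1 hp')) r hr') (B.inv_mem hr')⟩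
  have hcomM : ∀ x ∈ F.M, ∀ y ∈ F.M, x * y * x⁻¹ * y⁻¹ ∈ F.Z := by
    intro x hx y hy
    obtain ⟨p, hp', r, hr', rfl⟩ := hdec x hx
    obtain ⟨p', hp'', r', hr'', rfl⟩ := hdec y hy
    have e1 := hcom p hp' r' hr''
    have e2 := F.Z.inv_mem (hcom p' hp'' r hr')
    rw [show (p' * r * p'⁻¹ * r⁻¹)⁻¹ = r * p' * r⁻¹ * p'⁻¹ by group] at e2
    set c := r * p' * r⁻¹ * p'⁻¹ with hcdef
    set d := p * r' * p⁻¹ * r'⁻¹ with hddef
    have hcentral : ∀ {z g : G}, z ∈ F.Z → g ∈ F.M → g * z = z * g := fun hz hg =>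
      ((F.mem_Z.1 hz).2 _ hg).eq
    have h1 : r * p' = c * (p' * r) := by rw [hcdef]; group
    have h2 : p * r' = d * (r' * p) := by rw [hddef]; group
    have h3 : p * p' = p' * p := (hAc p hp' p' hp'').eq
    have h4 : r * r' = r' * r := (hBc r hr' r' hr'').eq
    have h5 : p * r * (p' * r') = c * d * (p' * r' * (p * r)) := by
      calc p * r * (p' * r') = p * (r * p') * r' := by group
        _ = p * c * (p' * (r * r')) := by rw [h1]; group
        _ = c * p * (p' * (r' * r)) := by rw [hcentral e2 (hA.1 hp'), h4]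
        _ = c * ((p * p') * r' * r) := by group
        _ = c * (p' * (p * r') * r) := by rw [h3]; group
        _ = c * ((p' * d) * r' * p * r) := by rw [h2]; group
        _ = c * ((d * p') * r' * p * r) := by rw [hcentral e1 (hA.1 hp'')]
        _ = _ := by group
    rw [show p * r * (p' * r') * (p * r)⁻¹ * (p' * r')⁻¹
      = p * r * (p' * r') * (p' * r' * (p * r))⁻¹ by group, h5, mul_inv_cancel_right]
    exact mul_mem e2 e1
  -- so every square is central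
  have hsqW : F.sq ≤ F.W := by
    refine (Subgroup.closure_le _).2 ?_
    rintro _ ⟨x, hx, rfl⟩
    refine hZW (F.mem_Z.2 ⟨mul_mem hx hx, fun y hy => ?_⟩)
    set c := y * x * y⁻¹ * x⁻¹ with hc
    have hcZ : c ∈ F.Z := hcomM y hy x hx
    have hcc := (F.mem_Z.1 hcZ).2 x hx
    have e : y * x = c * x * y := by rw [hc]; group
    show y * (x * x) = x * x * y
    calc y * (x * x) = (y * x) * x := by group
      _ = c * x * y * x := by rw [e]
      _ = c * x * (y * x) := by group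
      _ = c * x * (c * x * y) := by rw [e]
      _ = c * (x * c) * x * y := by group
      _ = c * (c * x) * x * y := by rw [hcc.eq]
      _ = (c * c) * (x * x * y) := by group
      _ = x * x * y := by rw [(F.mem_W.1 (hZW hcZ)).2, one_mul]
  refine ⟨hsqW, ?_⟩
  have hW : F.sq = F.W := le_antisymm hsqW (F.W_le hp F.inv_sq fun h => hna fun x hx y hy => by
    have hxx : ∀ u ∈ F.M, u * u = 1 := fun u hu => Subgroup.mem_bot.1 (h ▸ F.sq_mem hu)
    have hh := hxx (x * y) (mul_mem hx hy)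
    calc x * y = (x * y)⁻¹ := eq_inv_of_mul_eq_one_left hh
      _ = y⁻¹ * x⁻¹ := mul_inv_rev _ _
      _ = y * x := by rw [← eq_inv_of_mul_eq_one_left (hxx x hx),
          ← eq_inv_of_mul_eq_one_left (hxx y hy)])
  rw [hW, F.card_W, hn] at hj
  have : j = 1 := (Nat.pow_right_injective hq (show (2 ^ n) ^ j = (2 ^ n) ^ 1 by
    rw [pow_one]; exact hj.symm))
  rw [ha, show a = 3 by omega]

end Cfsg.Agent.H65.TICent.Frame
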