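import Cfsg.Agent.H65.TICent.Kernel
import Cfsg.Agent.H28.ZassApps
import Cfsg.Agent.H28.ZassFeit
import Cfsg.Agent.H28.ZassInvol
import Cfsg.Agent.H28.ZTCubeMain
import Cfsg.Agent.H39.ElemPSL
import Cfsg.Agent.S0338
import Cfsg.Agent.S1476
import Cfsg.Agent.H27.PermFamily

/-!
# Groups in which all element centralisers are TI sets: the classification
-/

set_option autoImplicit false
set_option linter.unusedSectionVars false
set_option linter.style.haveILetI false

namespace Cfsg.Agent.H65.TICent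

universe u

variable {G : Type u} [Group G] [Finite G]

namespace Frame

variable (F : Frame G)

/-- An abelian `M` is elementary abelian. -/
theorem sq_eq_one_of_comm (hc : ∀ a ∈ F.M, ∀ b ∈ F.M, Commute a b) {x : G} (hx : x ∈ F.M) :
    x * x = 1 := by
  obtain ⟨hZ, hker⟩ := F.zassenhaus
  obtain ⟨P, hP⟩ := F.exists_ne_base
  have hcard : F.m + 1 = Nat.card ↥F.M := by
    rcases H28.Zass.kernel_cases hker hZ hP.symm (fun a ha b hb => (hc a ha b hb).eq) with h | h
    · rwa [F.card_two hP] at h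
    · have := F.hz ▸ Subgroup.orderOf_dvd_natCard F.M F.z_mem
      omega
  have hW : F.W = F.M := Subgroup.eq_of_le_of_card_ge (fun y hy => (F.mem_W.1 hy).1)
    (by rw [F.card_W, hcard])
  exact (F.mem_W.1 (hW.symm ▸ hx : x ∈ F.W)).2

/-- The kernel is abelian. -/
theorem comm_M : ∀ a ∈ F.M, ∀ b ∈ F.M, Commute a b := by
  classical
  by_contra hna
  obtain ⟨hZ, hker⟩ := F.zassenhaus
  haveI := Fintype.ofFinite G
  haveI := Fintype.ofFinite (G ⧸ F.N)
  have h2M : 2 ∣ Nat.card ↥F.M := F.hz ▸ Subgroup.orderOf_dvd_natCard F.M F.z_mem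
  haveI : IsSimpleGroup G := S0338.result hZ (by
    rw [← Nat.card_eq_fintype_card, F.card_points, Nat.odd_add]
    exact iff_of_false (Nat.not_odd_iff_even.2 (even_iff_two_dvd.2 h2M)) (by decide))
  obtain ⟨P, hP⟩ := F.exists_ne_base
  have hcard := F.card_two hP
  obtain ⟨hcyc, -, hinv⟩ := H28.Zass.inverted_of_simple hZ hP.symm (F.odd_two hP)
  have hm := F.two_le_m
  have hlt : 2 * Nat.card ↥(F.two P) < Nat.card ↥F.M - 1 := by
    have hd : F.m ∣ Nat.card ↥F.M - 1 := F.inv_dvd F.inv_M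
    have hM := F.two_le_card_M
    rw [hcard]
    by_contra hle
    obtain ⟨k, hk⟩ := hd
    have hk2 : k ≤ 2 := by
      by_contra h3
      have : F.m * 3 ≤ F.m * k := Nat.mul_le_mul_left _ (by omega)
      omega
    interval_cases k
    · omega
    · have hW : F.W = F.M := Subgroup.eq_of_le_of_card_ge (fun y hy => (F.mem_W.1 hy).1)
        (by rw [F.card_W]; omega)
      exact hna fun a ha b hb => F.commute_W (hW.symm ▸ hb) ha
    · omega
  obtain ⟨p, hp, hpg, -, hidx⟩ := H28.Zass.feit_odd hker hZ hP.symm hcyc (F.odd_two hP) hinv hlt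
  haveI := Fact.mk hp
  have hp2 : p = 2 := by
    obtain ⟨k, hk⟩ := IsPGroup.iff_orderOf.1 hpg ⟨F.z, F.z_mem⟩
    rw [Subgroup.orderOf_mk, F.hz] at hk
    have hk1 : k ≠ 0 := fun h => by rw [h, pow_zero] at hk; omega
    exact (Nat.prime_dvd_prime_iff_eq hp Nat.prime_two).1 (hk.symm ▸ dvd_pow_self p hk1)
  subst hp2
  obtain ⟨n, hn⟩ := IsPGroup.iff_card.1 (hpg.to_le (K := F.M) (H := F.W) fun y hy => (F.mem_W.1 hy).1)
  rw [F.card_W] at hn
  have hn2 : 2 ≤ n := by
    by_contra h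
    have : 2 ^ n ≤ 2 ^ 1 := Nat.pow_le_pow_right (by norm_num) (by omega)
    omega
  have hcom : commutator ↥F.M ≤ F.sq.subgroupOf F.M := by
    rw [_root_.commutator_def, Subgroup.commutator_le]
    intro a _ b _
    rw [Subgroup.mem_subgroupOf, commutatorElement_def]
    exact F.commutator_mem_sq a.2 b.2
  have hbound : Nat.card ↥F.M < (2 ^ n) ^ 3 * Nat.card ↥F.sq := by
    have h1 : (F.sq.subgroupOf F.M).index ≤ (commutator ↥F.M).index :=
      Nat.le_of_dvd (Nat.pos_of_ne_zero Subgroup.index_ne_zero_of_finite)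
        (Subgroup.index_dvd_of_le hcom)
    have h2 := Subgroup.card_mul_index (F.sq.subgroupOf F.M)
    rw [Nat.card_congr (Subgroup.subgroupOfEquivOfLe F.inv_sq.1).toEquiv] at h2
    rw [← h2, mul_comm ((2 ^ n) ^ 3)]
    refine Nat.mul_lt_mul_of_pos_left ?_ Nat.card_pos
    rw [hcard] at hidx
    calc (F.sq.subgroupOf F.M).index ≤ 4 * F.m ^ 2 + 1 := h1.trans hidx
      _ < (F.m + 1) ^ 3 := by nlinarith
      _ = _ := by rw [hn]
  obtain ⟨hsW, hc3⟩ := F.kernel_structure hpg hna hn hbound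
  refine H28.ZT.cube_false hker hZ hP.symm hcyc (F.odd_two hP) hinv F.W
    (fun y hy => (F.mem_W.1 hy).1) (fun g hg w hw => F.inv_W.2 g (F.smul_base.1 hg) w hw)
    (fun a ha b hb => hsW (F.commutator_mem_sq ha hb)) n hn2 (by rw [F.card_W, hn]) ?_ hc3
  rw [hcard, hn]

include F in
theorem elemCentralizers : H39.ElemCentralizers G := by
  intro t ht
  obtain ⟨g, hg⟩ := F.exists_conj ht
  have hmem : ∀ c ∈ Subgroup.centralizer ({t} : Set G), g⁻¹ * c * g ∈ F.M := by
    intro c hc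
    have h := (mem_C.1 hc).map (MulAut.conj g⁻¹).toMonoidHom
    simp only [MulEquiv.toMonoidHom_eq_coe, MonoidHom.coe_coe, MulAut.conj_apply, inv_inv] at h
    rw [← hg, show g⁻¹ * (g * F.z * g⁻¹) * g = F.z by group] at h
    exact mem_C.2 h
  refine ⟨⟨⟨fun a b => Subtype.ext ?_⟩⟩, fun c hc => ?_⟩
  · show (a : G) * b = b * a
    calc (a : G) * b = g * ((g⁻¹ * a * g) * (g⁻¹ * b * g)) * g⁻¹ := by group
      _ = g * ((g⁻¹ * b * g) * (g⁻¹ * a * g)) * g⁻¹ := by
        rw [(F.comm_M _ (hmem a a.2) _ (hmem b b.2)).eq]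
      _ = _ := by group
  · have h := F.sq_eq_one_of_comm F.comm_M (hmem c hc)
    calc c ^ 2 = g * ((g⁻¹ * c * g) * (g⁻¹ * c * g)) * g⁻¹ := by rw [pow_two]; group
      _ = 1 := by rw [h]; group

end Frame

/-- A nonsolvable group with TI element centralisers is `PSL(2, 2^n)`. -/
theorem exists_psl (hTI : TI G) (hns : ¬ Group.IsSolvable G) :
    ∃ n : ℕ, 2 ≤ n ∧
      Nonempty (G ≃* Matrix.ProjectiveSpecialLinearGroup (Fin 2) (GaloisField 2 n)) := by
  classical
  obtain ⟨F⟩ := exists_frame hTI hns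
  haveI : Fact (Nat.Prime 2) := ⟨Nat.prime_two⟩
  obtain ⟨S, hS⟩ := F.hS
  have hexp : ∀ x ∈ F.M, x * x = 1 := fun x hx => F.sq_eq_one_of_comm F.comm_M hx
  have hMp : IsPGroup 2 ↥F.M := fun x =>
    ⟨1, Subtype.ext (by rw [pow_one, pow_two]; exact hexp x x.2)⟩
  have hW : F.W = F.M :=
    le_antisymm (fun y hy => (F.mem_W.1 hy).1) fun y hy => F.mem_W.2 ⟨hy, hexp y hy⟩
  have hSM : (S : Subgroup G) = F.M := (S.is_maximal' hMp hS).symm
  have hcard : Nat.card ↥(S : Subgroup G) = F.m + 1 := by rw [hSM, ← hW, F.card_W]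
  have hm := F.two_le_m
  have hnc : ¬ IsCyclic ↥(S : Subgroup G) := by
    intro hc
    obtain ⟨g, hg⟩ := hc.exists_ofOrder_eq_natCard
    have h2 : orderOf g ∣ 2 := orderOf_dvd_of_pow_eq_one (Subtype.ext (by
      rw [pow_two, Subgroup.coe_mul]; exact hexp g (hS g.2)))
    have := Nat.le_of_dvd (by norm_num) h2
    omega
  have hnn : ¬ (S : Subgroup G).Normal := fun h => hns (solvable_of_normal_pgroup hTI h S.2
    fun hb => by rw [hb, Subgroup.card_bot] at hcard; omega)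
  obtain ⟨K, iK, iK', hK, ⟨e⟩⟩ := H39.ec_isPSL F.elemCentralizers hnc hnn
  obtain ⟨n, hn⟩ := IsPGroup.iff_card.1 S.2
  have hn2 : 2 ≤ n := by
    by_contra h
    have : 2 ^ n ≤ 2 ^ 1 := Nat.pow_le_pow_right (by norm_num) (by omega)
    omega
  rw [hn] at hK
  haveI := Fintype.ofFinite (GaloisField 2 n)
  have hcG : Fintype.card (GaloisField 2 n) = 2 ^ n := by
    rw [← Nat.card_eq_fintype_card, GaloisField.card 2 n (by omega)]
  let r : K ≃+* GaloisField 2 n := FiniteField.ringEquivOfCardEq (hK.trans hcG.symm)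
  exact ⟨n, hn2, ⟨e.trans (H27.PermFamily.pslCongr r)⟩⟩

end Cfsg.Agent.H65.TICent
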